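import Groth.Prelude.Def_W4c3perfectstacksMV
import Mathlib

/-!
Mayer-Vietoris squares of triangulated categories.
-/

set_option autoImplicit false
set_option backward.isDefEq.respectTransparency false
set_option backward.defeqAttrib.useBackward true

noncomputable section

universe v u

open CategoryTheory CategoryTheory.Limits CategoryTheory.Pretriangulated W4c3perfectstacks

namespace Groth.Agent.MVSqLib

section

variable {C : Type u} [Category.{v} C] [Preadditive C] [HasZeroObject C] [HasShift C ℤ]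
  [∀ n : ℤ, (shiftFunctor C n).Additive] [Pretriangulated C]

/-- A triangle whose second map is an isomorphism on a complementary summand. -/
lemma isIso_mor₁_comp (T : Triangle C) (hT : T ∈ distTriang C) {X Y : C} (p : T.obj₂ ⟶ X) (s : X ⟶ T.obj₂)
    (q : T.obj₂ ⟶ Y) (i : Y ⟶ T.obj₂) (hsp : s ≫ p = 𝟙 X) (hip : i ≫ p = 0) (h : p ≫ s + q ≫ i = 𝟙 _)
    [IsIso (i ≫ T.mor₂)] : IsIso (T.mor₁ ≫ p) := by
  haveI : Epi T.mor₂ := epi_of_epi i T.mor₂
  have h3 : T.mor₃ = 0 := by rw [← cancel_epi T.mor₂, comp_distTriang_mor_zero₂₃ T hT, comp_zero]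
  haveI : Mono T.mor₁ := T.mono₁ hT h3
  obtain ⟨l, hl⟩ := T.coyoneda_exact₂ hT (s - s ≫ T.mor₂ ≫ inv (i ≫ T.mor₂) ≫ i) (by simp)
  refine ⟨l, ?_, ?_⟩
  · rw [← cancel_mono T.mor₁, Category.assoc, Category.assoc, ← hl, Category.id_comp]
    have e : p ≫ (s - s ≫ T.mor₂ ≫ inv (i ≫ T.mor₂) ≫ i) = 𝟙 _ - T.mor₂ ≫ inv (i ≫ T.mor₂) ≫ i := by
      rw [Preadditive.comp_sub, ← Category.assoc p s, eq_sub_of_add_eq h, Preadditive.sub_comp, Category.id_comp,
        Category.assoc]
      have e2 : i ≫ T.mor₂ ≫ inv (i ≫ T.mor₂) ≫ i = i := by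
        rw [← Category.assoc i, IsIso.hom_inv_id_assoc]
      rw [e2]
      abel
    rw [e, Preadditive.comp_sub, Category.comp_id, comp_distTriang_mor_zero₁₂_assoc T hT, zero_comp, sub_zero]
  · rw [← Category.assoc, ← hl, Preadditive.sub_comp, hsp]
    simp [hip]

omit [HasZeroObject C] [Pretriangulated C] in
/-- Shifted cancellation. -/
lemma eq_zero_of_shift {N K W : C} (φ : N ⟶ K) (h : W ⟶ N⟦(1 : ℤ)⟧) (h0 : h ≫ φ⟦(1 : ℤ)⟧' = 0)
    (H : ∀ t : W⟦(-1 : ℤ)⟧ ⟶ N, t ≫ φ = 0 → t = 0) : h = 0 := by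
  let e := shiftFunctorCompIsoId C (1 : ℤ) (-1) (by omega)
  have h1 : (h⟦(-1 : ℤ)⟧' ≫ e.hom.app N) ≫ φ = 0 := by
    rw [Category.assoc, show e.hom.app N ≫ φ = _ from (e.hom.naturality φ).symm, ← Category.assoc]
    change ((shiftFunctor C (-1 : ℤ)).map h ≫ (shiftFunctor C (-1 : ℤ)).map ((shiftFunctor C (1 : ℤ)).map φ)) ≫ _ = 0
    rw [← Functor.map_comp, h0, Functor.map_zero, zero_comp]
  refine (shiftFunctor C (-1 : ℤ)).map_injective ?_
  rw [Functor.map_zero, ← cancel_mono (e.hom.app N), zero_comp]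
  exact H _ h1

omit [HasZeroObject C] [HasShift C ℤ] [∀ n : ℤ, (shiftFunctor C n).Additive] [Pretriangulated C] in
lemma isIso_neg {X Y : C} (f : X ⟶ Y) [IsIso f] : IsIso (-f) := ⟨-inv f, by simp, by simp⟩

variable {E : Type u} [Category.{v} E] [Preadditive E] [HasZeroObject E] [HasShift E ℤ]
  [∀ n : ℤ, (shiftFunctor E n).Additive] [Pretriangulated E]

/-- After a triangulated functor, a first map is invertible on a summand. -/
lemma isIso_map_fst (F : C ⥤ E) [F.CommShift ℤ] [F.IsTriangulated] {N X Y Z : C} [HasBinaryBiproduct X Y]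
    (a : N ⟶ X ⊞ Y) (b : X ⊞ Y ⟶ Z) (d : Z ⟶ N⟦(1 : ℤ)⟧) (hT : Triangle.mk a b d ∈ distTriang C)
    (h : IsIso (F.map (biprod.inr ≫ b))) : IsIso (F.map (a ≫ biprod.fst)) := by
  haveI : IsIso (F.map biprod.inr ≫ (F.mapTriangle.obj (Triangle.mk a b d)).mor₂) := by
    change IsIso (F.map biprod.inr ≫ F.map b)
    rw [← Functor.map_comp]
    exact h
  have := isIso_mor₁_comp _ (F.map_distinguished _ hT) (F.map biprod.fst) (F.map biprod.inl)
    (F.map biprod.snd) (F.map biprod.inr)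
    ((F.map_comp _ _).symm.trans (by rw [biprod.inl_fst]; exact F.map_id _))
    ((F.map_comp _ _).symm.trans (by rw [biprod.inr_fst]; exact F.map_zero _ _))
    ((congrArg₂ (· + ·) (F.map_comp _ _).symm (F.map_comp _ _).symm).trans
      (F.map_add.symm.trans ((congrArg F.map biprod.total).trans (F.map_id _))))
  rw [Functor.map_comp]
  exact this

end

variable {S S' R R' : Type u} [Category.{v} S] [Category.{v} S'] [Category.{v} R] [Category.{v} R']
    [Preadditive S] [Preadditive S'] [Preadditive R] [Preadditive R']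
    [HasZeroObject S] [HasZeroObject S'] [HasZeroObject R] [HasZeroObject R']
    [HasShift S ℤ] [HasShift S' ℤ] [HasShift R ℤ] [HasShift R' ℤ]
    [∀ n : ℤ, (shiftFunctor S n).Additive] [∀ n : ℤ, (shiftFunctor S' n).Additive]
    [∀ n : ℤ, (shiftFunctor R n).Additive] [∀ n : ℤ, (shiftFunctor R' n).Additive]
    [Pretriangulated S] [Pretriangulated S'] [Pretriangulated R] [Pretriangulated R']
    [IsTriangulated S] [IsTriangulated S'] [IsTriangulated R] [IsTriangulated R']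
    (q : W4c3perfectstacks.MVSq S S' R R')
    [q.jst.CommShift ℤ] [q.fst.CommShift ℤ] [q.jpst.CommShift ℤ] [q.gst.CommShift ℤ]
    [q.jst.IsTriangulated] [q.fst.IsTriangulated] [q.jpst.IsTriangulated] [q.gst.IsTriangulated]

/-- The composite `f_* f^*` as a triangulated functor. -/
lemma map_dist (T : Triangle S) (hT : T ∈ distTriang S) :
    ∃ d, Triangle.mk (q.fls.map (q.fst.map T.mor₁)) (q.fls.map (q.fst.map T.mor₂)) d ∈ distTriang S := by
  letI := q.adjF.rightAdjointCommShift ℤ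
  haveI := q.adjF.commShift_of_leftAdjoint (A := ℤ)
  haveI := q.adjF.isTriangulated_rightAdjoint
  exact ⟨_, (q.fst ⋙ q.fls).map_distinguished T hT⟩

instance : q.fls.Additive := q.adjF.right_adjoint_additive
instance : q.jls.Additive := q.adjJ.right_adjoint_additive
instance : q.gls.Additive := q.adjG.right_adjoint_additive
instance : q.jpls.Additive := q.adjJp.right_adjoint_additive

/-- `T` receives only zero maps from objects killed by `j^*`. -/
def Orth (T : S) : Prop := ∀ V : S, IsZero (q.jst.obj V) → ∀ f : V ⟶ T, f = 0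

lemma isZero_shift {V : S} (hV : IsZero (q.jst.obj V)) (n : ℤ) : IsZero (q.jst.obj (V⟦n⟧)) :=
  (Functor.map_isZero (shiftFunctor R n) hV).of_iso ((q.jst.commShiftIso n).app V)

variable {q} in
lemma Orth.shift {T : S} (h : Orth q T) (n : ℤ) : Orth q (T⟦n⟧) := fun V hV f => by
  have h1 := h _ (isZero_shift q hV (-n)) (f⟦-n⟧' ≫ (shiftFunctorCompIsoId S n (-n) (by omega)).hom.app T)
  rw [← cancel_mono ((shiftFunctorCompIsoId S n (-n) (by omega)).inv.app T), Category.assoc, Iso.hom_inv_id_app,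
    zero_comp] at h1
  refine (shiftFunctor S (-n)).map_injective ?_
  rw [Functor.map_zero]
  exact (Category.comp_id _).symm.trans h1

lemma orth_jls (Q : R) : Orth q (q.jls.obj Q) := fun V hV f => by
  apply (q.adjJ.homEquiv _ _).symm.injective
  exact hV.eq_of_src _ _

lemma isZero_jpst_fst {V : S} (hV : IsZero (q.jst.obj V)) : IsZero (q.jpst.obj (q.fst.obj V)) :=
  (Functor.map_isZero q.gst hV).of_iso (q.e.app V).symm

lemma orth_fls_jpls (Y : R') : Orth q (q.fls.obj (q.jpls.obj Y)) := fun V hV f => by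
  apply (q.adjF.homEquiv _ _).symm.injective
  apply (q.adjJp.homEquiv _ _).symm.injective
  exact (isZero_jpst_fst q hV).eq_of_src _ _

variable {q} (hq : q.IsMV)

include hq

lemma orth_mon (Q : R) : Orth q (q.fls.obj (q.fst.obj (q.jls.obj Q))) := fun V hV f => by
  haveI := hq.isIso_bc2App Q
  rw [← cancel_mono (q.fls.map (q.bc2App Q)), zero_comp]
  exact orth_fls_jpls q _ V hV _

lemma isZero_jst_fls {M : S'} (hM : IsZero (q.jpst.obj M)) : IsZero (q.jst.obj (q.fls.obj M)) := by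
  haveI := hq.isIso_bcApp M
  exact (Functor.map_isZero q.gls hM).of_iso (asIso (q.bcApp M))

lemma isIso_jst_unit (N : S) : IsIso (q.jst.map (q.adjJ.unit.app N)) := by
  haveI := hq.isIso_counitJ
  haveI : IsIso (q.jst.map (q.adjJ.unit.app N) ≫ q.adjJ.counit.app (q.jst.obj N)) := by
    rw [q.adjJ.left_triangle_components N]; exact IsIso.id _
  exact IsIso.of_isIso_comp_right _ (q.adjJ.counit.app (q.jst.obj N))

omit hq in
lemma bij_of_triangle {N B Z V : S} (hV : IsZero (q.jst.obj V)) (a : N ⟶ B) (b : B ⟶ Z) (d : Z ⟶ N⟦(1 : ℤ)⟧)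
    (hT : Triangle.mk a b d ∈ distTriang S) (hZ : Orth q Z) : Function.Bijective (fun f : V ⟶ N => f ≫ a) := by
  refine ⟨fun f g h => ?_, fun f => ?_⟩
  · rw [← sub_eq_zero]
    obtain ⟨t, ht⟩ := Triangle.coyoneda_exact₂ _ (inv_rot_of_distTriang _ hT) (f - g)
      (show (f - g) ≫ a = 0 by rw [Preadditive.sub_comp, sub_eq_zero]; exact h)
    rw [ht]
    exact (congrArg (· ≫ _) (hZ.shift (-1) V hV t)).trans zero_comp
  · obtain ⟨t, ht⟩ := Triangle.coyoneda_exact₂ _ hT f (hZ V hV _)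
    exact ⟨t, ht.symm⟩

omit hq in
lemma bij_snd {X Y V : S} (hV : IsZero (q.jst.obj V)) (hX : Orth q X) :
    Function.Bijective (fun f : V ⟶ X ⊞ Y => f ≫ biprod.snd) :=
  ⟨fun f g h => biprod.hom_ext _ _ ((hX V hV _).trans (hX V hV _).symm) h,
    fun f => ⟨biprod.lift 0 f, biprod.lift_snd _ _⟩⟩

lemma exists_kernel_triangle (N : S) : ∃ (C : S) (ι : C ⟶ N) (h : q.jls.obj (q.jst.obj N) ⟶ C⟦(1 : ℤ)⟧),
    Triangle.mk ι (q.adjJ.unit.app N) h ∈ distTriang S ∧ IsZero (q.jst.obj C) := by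
  obtain ⟨C, ι, h, hT⟩ := distinguished_cocone_triangle₁ (q.adjJ.unit.app N)
  refine ⟨C, ι, h, hT, ?_⟩
  exact ((q.jst.mapTriangle.obj _).isZero₁_iff_isIso₂ (q.jst.map_distinguished _ hT)).2 (isIso_jst_unit hq N)

/-- The unit of `f` is bijective on maps out of objects killed by `j^*`. -/
lemma bij_unit {V : S} (hV : IsZero (q.jst.obj V)) (N : S) :
    Function.Bijective (fun f : V ⟶ N => f ≫ q.adjF.unit.app N) := by
  obtain ⟨C, ι, h, hT, hC⟩ := exists_kernel_triangle hq N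
  obtain ⟨d, hd⟩ := map_dist q _ hT
  have b1 := bij_of_triangle hV ι _ _ hT (orth_jls q _)
  have b2 := bij_of_triangle hV _ _ _ hd (orth_mon hq _)
  haveI := hq.isIso_unitF C hC
  refine (Function.Bijective.of_comp_iff _ b1).1 ?_
  have e : ((fun f : V ⟶ N => f ≫ q.adjF.unit.app N) ∘ fun f : V ⟶ C => f ≫ ι) =
      (fun f => f ≫ q.fls.map (q.fst.map ι)) ∘ fun f => f ≫ q.adjF.unit.app C := by
    funext f
    change (f ≫ ι) ≫ _ = (f ≫ _) ≫ _
    rw [Category.assoc, Category.assoc]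
    exact congrArg (f ≫ ·) (q.adjF.unit.naturality ι)
  exact e ▸ b2.comp (Iso.homToEquiv (asIso (q.adjF.unit.app C))).bijective

/-- Maps into `f_* f^* j_*` are determined after `f_* f^*` of the unit of `j`. -/
lemma cancel_unit {N : S} {Q : R} (t : q.fls.obj (q.fst.obj (q.jls.obj (q.jst.obj N))) ⟶ q.fls.obj (q.fst.obj (q.jls.obj Q)))
    (ht : q.fls.map (q.fst.map (q.adjJ.unit.app N)) ≫ t = 0) : t = 0 := by
  obtain ⟨C, ι, h, hT, hC⟩ := exists_kernel_triangle hq N
  obtain ⟨d, hd⟩ := map_dist q _ (rot_of_distTriang _ hT)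
  obtain ⟨s, hs⟩ := Triangle.yoneda_exact₂ _ hd t ht
  haveI := hq.isIso_unitF _ (isZero_shift q hC 1)
  have : s = 0 := by
    exact (cancel_epi (q.adjF.unit.app (C⟦(1 : ℤ)⟧))).1
      ((orth_mon hq Q _ (isZero_shift q hC 1) _).trans comp_zero.symm)
  rw [hs, this]
  exact comp_zero

lemma bcApp_naturality {M M' : S'} (g : M ⟶ M') :
    q.jst.map (q.fls.map g) ≫ q.bcApp M' = q.bcApp M ≫ q.gls.map (q.jpst.map g) := by
  simp only [MVSq.bcApp, Category.assoc, ← Functor.map_comp]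
  rw [← q.adjF.counit_naturality g, ← q.adjG.unit_naturality_assoc]
  simp only [← Functor.map_comp]
  rw [Functor.map_comp q.jpst]
  exact congrArg _ (congrArg _ (q.e.hom.naturality_assoc (q.fls.map g) _))

lemma isIso_jst_fls_map {M M' : S'} (g : M ⟶ M') [IsIso (q.jpst.map g)] : IsIso (q.jst.map (q.fls.map g)) := by
  haveI := hq.isIso_bcApp M
  haveI := hq.isIso_bcApp M'
  have : IsIso (q.jst.map (q.fls.map g) ≫ q.bcApp M') := by rw [bcApp_naturality hq]; infer_instance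
  exact IsIso.of_isIso_comp_right _ (q.bcApp M')

lemma isIso_jpst_fst_unit (N : S) : IsIso (q.jpst.map (q.fst.map (q.adjJ.unit.app N))) := by
  haveI := isIso_jst_unit hq N
  exact (NatIso.isIso_map_iff q.e (q.adjJ.unit.app N)).1 (inferInstanceAs (IsIso (q.gst.map (q.jst.map _))))

omit hq in
variable (q) in
/-- The first map of the Mayer-Vietoris triangle. -/
abbrev mvFirst (N : S) := biprod.lift (q.adjJ.unit.app N) (q.adjF.unit.app N)

omit hq in
variable (q) in
/-- The second map of the Mayer-Vietoris triangle. -/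
abbrev mvSecond (N : S) := biprod.desc (q.adjF.unit.app (q.jls.obj (q.jst.obj N)))
  (-(q.fls.map (q.fst.map (q.adjJ.unit.app N))))

theorem natural {N₁ N₂ : S} (φ : N₁ ⟶ N₂)
    (d₁ : q.fls.obj (q.fst.obj (q.jls.obj (q.jst.obj N₁))) ⟶ N₁⟦(1 : ℤ)⟧)
    (d₂ : q.fls.obj (q.fst.obj (q.jls.obj (q.jst.obj N₂))) ⟶ N₂⟦(1 : ℤ)⟧)
    (h₁ : Triangle.mk (mvFirst q N₁) (mvSecond q N₁) d₁ ∈ distTriang S)
    (h₂ : Triangle.mk (mvFirst q N₂) (mvSecond q N₂) d₂ ∈ distTriang S) :
    d₁ ≫ (shiftFunctor S (1 : ℤ)).map φ = q.fls.map (q.fst.map (q.jls.map (q.jst.map φ))) ≫ d₂ := by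
  have n1 := q.adjJ.unit.naturality φ
  have n2 := q.adjF.unit.naturality φ
  simp only [Functor.id_map, Functor.comp_map] at n1 n2
  obtain ⟨c, hc, hc'⟩ := complete_distinguished_triangle_morphism _ _ h₁ h₂ φ
    (biprod.map (q.jls.map (q.jst.map φ)) (q.fls.map (q.fst.map φ))) (by
      change mvFirst q N₁ ≫ _ = φ ≫ mvFirst q N₂
      apply biprod.hom_ext
      · simp only [mvFirst, Category.assoc, biprod.map_fst, biprod.lift_fst_assoc, biprod.lift_fst]
        exact n1.symm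
      · simp only [mvFirst, Category.assoc, biprod.map_snd, biprod.lift_snd_assoc, biprod.lift_snd]
        exact n2.symm)
  change mvSecond q N₁ ≫ c = _ ≫ mvSecond q N₂ at hc
  change d₁ ≫ _ = c ≫ d₂ at hc'
  have h := congrArg (biprod.inr ≫ ·) hc
  simp only [biprod.inr_desc_assoc, biprod.inr_map_assoc, biprod.inr_desc, Preadditive.neg_comp, Preadditive.comp_neg,
    neg_inj, ← Functor.map_comp] at h
  rw [n1, Functor.map_comp, Functor.map_comp] at h
  let c' : q.fls.obj (q.fst.obj (q.jls.obj (q.jst.obj N₁))) ⟶ q.fls.obj (q.fst.obj (q.jls.obj (q.jst.obj N₂))) := c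
  have h5 : c' = q.fls.map (q.fst.map (q.jls.map (q.jst.map φ))) :=
    sub_eq_zero.1 (cancel_unit hq _ (by rw [Preadditive.comp_sub]; exact sub_eq_zero.2 h))
  rw [hc']
  exact congrArg (· ≫ d₂) h5

theorem existsUnique (N : S) :
    ∃! d : q.fls.obj (q.fst.obj (q.jls.obj (q.jst.obj N))) ⟶ N⟦(1 : ℤ)⟧,
      Triangle.mk (mvFirst q N) (mvSecond q N) d ∈ distTriang S := by
  obtain ⟨K, k, d, hK⟩ := distinguished_cocone_triangle₁ (mvSecond q N)
  obtain ⟨φ, hφ⟩ := Triangle.coyoneda_exact₂ _ hK (mvFirst q N) (by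
    change mvFirst q N ≫ mvSecond q N = 0
    rw [biprod.lift_desc, Preadditive.comp_neg, ← sub_eq_add_neg, sub_eq_zero]
    exact q.adjF.unit.naturality (q.adjJ.unit.app N))
  change _ = φ ≫ k at hφ
  haveI h1 : IsIso (q.jst.map φ) := by
    haveI := isIso_jpst_fst_unit hq N
    haveI := isIso_jst_fls_map hq (q.fst.map (q.adjJ.unit.app N))
    haveI := isIso_jst_unit hq N
    haveI := isIso_map_fst q.jst k _ d hK (by
      rw [biprod.inr_desc, Functor.map_neg]
      exact isIso_neg _)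
    have e : q.jst.map φ ≫ q.jst.map (k ≫ biprod.fst) = q.jst.map (q.adjJ.unit.app N) := by
      rw [← Functor.map_comp]
      exact congrArg q.jst.map ((Category.assoc _ _ _).symm.trans ((congrArg (· ≫ biprod.fst) hφ.symm).trans (biprod.lift_fst _ _)))
    exact IsIso.of_isIso_fac_right e
  have hb : ∀ {V : S}, IsZero (q.jst.obj V) → Function.Bijective (fun f : V ⟶ N => f ≫ φ) := fun {V} hV => by
    have b1 := (bij_snd hV (orth_jls q _)).comp (bij_of_triangle hV k _ _ hK (orth_mon hq _))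
    refine (Function.Bijective.of_comp_iff' b1 _).1 ?_
    have e : (((fun f : V ⟶ q.jls.obj (q.jst.obj N) ⊞ q.fls.obj (q.fst.obj N) => f ≫ biprod.snd) ∘
        fun f : V ⟶ K => f ≫ k) ∘ fun f : V ⟶ N => f ≫ φ) = fun f : V ⟶ N => f ≫ q.adjF.unit.app N := by
      funext f
      change ((f ≫ φ) ≫ k) ≫ biprod.snd = _
      rw [Category.assoc f, Category.assoc]
      exact congrArg (f ≫ ·) ((congrArg (· ≫ biprod.snd) hφ.symm).trans (biprod.lift_snd _ _))
    exact e ▸ bij_unit hq hV N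
  haveI : IsIso φ := by
    obtain ⟨W, g, h, hW⟩ := distinguished_cocone_triangle φ
    have hzW : IsZero (q.jst.obj W) :=
      ((q.jst.mapTriangle.obj _).isZero₃_iff_isIso₁ (q.jst.map_distinguished _ hW)).2 h1
    refine ((Triangle.mk φ g h).isZero₃_iff_isIso₁ hW).1 ((IsZero.iff_id_eq_zero W).2 ?_)
    have hh : h = 0 := by
      have hV := isZero_shift q hzW (-1)
      refine eq_zero_of_shift φ h (comp_distTriang_mor_zero₃₁ _ hW) ?_
      intro t ht
      exact (hb hV).1 (ht.trans zero_comp.symm)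
    obtain ⟨a, ha⟩ := Triangle.coyoneda_exact₃ _ hW (𝟙 W) (by change 𝟙 W ≫ h = 0; rw [hh, comp_zero])
    obtain ⟨b, rfl⟩ := (hb hzW).2 a
    change 𝟙 W = (b ≫ φ) ≫ g at ha
    rw [ha, Category.assoc]
    exact (congrArg (b ≫ ·) (comp_distTriang_mor_zero₁₂ _ hW)).trans comp_zero
  refine ⟨d ≫ (inv φ)⟦(1 : ℤ)⟧', isomorphic_distinguished _ hK _
    (Triangle.isoMk _ _ (asIso φ) (Iso.refl _) (Iso.refl _) (by simp [hφ]) (by simp) (by simp [← Functor.map_comp])), ?_⟩
  intro d' hd'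
  have := natural hq (𝟙 N) d' (d ≫ (inv φ)⟦(1 : ℤ)⟧') hd' (isomorphic_distinguished _ hK _
    (Triangle.isoMk _ _ (asIso φ) (Iso.refl _) (Iso.refl _) (by simp [hφ]) (by simp) (by simp [← Functor.map_comp])))
  simpa using this

theorem bij_fst_map {M : S'} (hM : IsZero (q.jpst.obj M)) (N : S) :
    Function.Bijective (fun g : q.fls.obj M ⟶ N => q.fst.map g) := by
  refine (Function.Bijective.of_comp_iff' (q.adjF.homEquiv _ _).bijective _).1 ?_
  have e : ((q.adjF.homEquiv (q.fls.obj M) (q.fst.obj N)) ∘ fun g : q.fls.obj M ⟶ N => q.fst.map g) =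
      fun g : q.fls.obj M ⟶ N => g ≫ q.adjF.unit.app N := by
    funext g
    exact (q.adjF.homEquiv_unit _ _ _).trans (q.adjF.unit.naturality g).symm
  exact e ▸ bij_unit hq (isZero_jst_fls hq hM) N

theorem glueing {NU : R} {N' : S'} (δ : q.jpst.obj N' ≅ q.gst.obj NU) {N : S}
    (a : N ⟶ q.jls.obj NU ⊞ q.fls.obj N')
    (d : q.fls.obj (q.jpls.obj (q.gst.obj NU)) ⟶ N⟦(1 : ℤ)⟧)
    (hT : Triangle.mk a
      (biprod.desc (q.adjF.unit.app (q.jls.obj NU) ≫ q.fls.map (q.bc2App NU))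
        (-(q.fls.map (q.adjJp.unit.app N' ≫ q.jpls.map δ.hom)))) d ∈ distTriang S) :
    IsIso ((q.adjJ.homEquiv N NU).symm (a ≫ biprod.fst)) ∧
      IsIso ((q.adjF.homEquiv N N').symm (a ≫ biprod.snd)) := by
  haveI := hq.isIso_counitJ
  haveI := hq.isIso_counitJp
  haveI hU : IsIso ((q.adjJ.homEquiv N NU).symm (a ≫ biprod.fst)) := by
    haveI : IsIso (q.jpst.map (q.adjJp.unit.app N' ≫ q.jpls.map δ.hom)) := by
      haveI : IsIso (q.jpst.map (q.adjJp.unit.app N')) := IsIso.of_isIso_fac_right (hh := IsIso.id _) (q.adjJp.left_triangle_components N')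
      rw [Functor.map_comp]
      infer_instance
    haveI := isIso_jst_fls_map hq (q.adjJp.unit.app N' ≫ q.jpls.map δ.hom)
    haveI := isIso_map_fst q.jst a _ d hT (by
      rw [biprod.inr_desc, Functor.map_neg]
      exact isIso_neg _)
    rw [Adjunction.homEquiv_counit]
    infer_instance
  refine ⟨hU, ?_⟩
  let ψ := (q.adjF.homEquiv N N').symm (a ≫ biprod.snd)
  have key : q.fst.map (a ≫ biprod.fst) ≫ q.bc2App NU = ψ ≫ q.adjJp.unit.app N' ≫ q.jpls.map δ.hom := by
    apply (q.adjF.homEquiv _ _).injective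
    rw [q.adjF.homEquiv_naturality_right _ _, q.adjF.homEquiv_naturality_right _ _, Equiv.apply_symm_apply,
      Adjunction.homEquiv_unit]
    have h : a ≫ biprod.desc (q.adjF.unit.app (q.jls.obj NU) ≫ q.fls.map (q.bc2App NU))
        (-(q.fls.map (q.adjJp.unit.app N' ≫ q.jpls.map δ.hom))) = 0 := comp_distTriang_mor_zero₁₂ _ hT
    rw [biprod.desc_eq, Preadditive.comp_add, Preadditive.comp_neg, Preadditive.comp_neg, ← sub_eq_add_neg,
      sub_eq_zero] at h
    rw [show q.adjF.unit.app N ≫ q.fls.map (q.fst.map (a ≫ biprod.fst)) = (a ≫ biprod.fst) ≫ q.adjF.unit.app _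
      from (q.adjF.unit.naturality _).symm]
    simpa only [Category.assoc] using h
  haveI hψ : IsIso (q.jpst.map ψ) := by
    have h2 := congrArg (q.adjJp.homEquiv _ _).symm key
    rw [Adjunction.homEquiv_naturality_left_symm _, Adjunction.homEquiv_naturality_left_symm _] at h2
    have e1 : (q.adjJp.homEquiv N' _).symm (q.adjJp.unit.app N' ≫ q.jpls.map δ.hom) = δ.hom :=
      (Equiv.symm_apply_eq _).2 (q.adjJp.homEquiv_unit _ _ _).symm
    have e2 : (q.adjJp.homEquiv _ _).symm (q.bc2App NU) = q.e.inv.app (q.jls.obj NU) ≫ q.gst.map (q.adjJ.counit.app NU) := by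
      rw [MVSq.bc2App, ← Functor.map_comp]
      exact (Equiv.symm_apply_eq _).2 (q.adjJp.homEquiv_unit _ _ _).symm
    rw [e1, e2, ← Category.assoc] at h2
    have h3 : q.jpst.map (q.fst.map (a ≫ biprod.fst)) ≫ q.e.inv.app (q.jls.obj NU) =
        q.e.inv.app N ≫ q.gst.map (q.jst.map (a ≫ biprod.fst)) := q.e.inv.naturality _
    rw [h3] at h2
    have h4 : q.gst.map (q.jst.map (a ≫ biprod.fst)) ≫ q.gst.map (q.adjJ.counit.app NU) =
        q.gst.map ((q.adjJ.homEquiv N NU).symm (a ≫ biprod.fst)) := by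
      rw [← Functor.map_comp, q.adjJ.homEquiv_counit]
    replace h2 : q.jpst.map ψ ≫ δ.hom = q.e.inv.app N ≫ q.gst.map ((q.adjJ.homEquiv N NU).symm (a ≫ biprod.fst)) :=
      h2.symm.trans ((Category.assoc _ _ _).trans (congrArg (q.e.inv.app N ≫ ·) h4))
    haveI : IsIso (q.jpst.map ψ ≫ δ.hom) := by rw [h2]; infer_instance
    exact IsIso.of_isIso_comp_right _ δ.hom
  have hb : ∀ {M : S'}, IsZero (q.jpst.obj M) → Function.Bijective (fun h : M ⟶ q.fst.obj N => h ≫ ψ) := by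
    intro M hM
    haveI := hq.isIso_counitF M hM
    have hV := isZero_jst_fls hq hM
    have b1 := (bij_snd hV (orth_jls q _)).comp (bij_of_triangle hV a _ _ hT (orth_fls_jpls q _))
    have b2 : Function.Bijective (fun g : q.fls.obj M ⟶ N => inv (q.adjF.counit.app M) ≫ q.fst.map g) :=
      (Iso.homFromEquiv (asIso (q.adjF.counit.app M))).bijective.comp (bij_fst_map hq hM N)
    refine (Function.Bijective.of_comp_iff _ b2).1 ?_
    have b3 : Function.Bijective (fun g : q.fls.obj M ⟶ q.fls.obj N' =>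
        inv (q.adjF.counit.app M) ≫ (q.adjF.homEquiv _ _).symm g) :=
      (Iso.homFromEquiv (asIso (q.adjF.counit.app M))).bijective.comp (q.adjF.homEquiv _ _).symm.bijective
    have e : ((fun h : M ⟶ q.fst.obj N => h ≫ ψ) ∘
        fun g : q.fls.obj M ⟶ N => inv (q.adjF.counit.app M) ≫ q.fst.map g) =
        (fun g : q.fls.obj M ⟶ q.fls.obj N' => inv (q.adjF.counit.app M) ≫ (q.adjF.homEquiv _ _).symm g) ∘
          fun g : q.fls.obj M ⟶ N => (g ≫ a) ≫ biprod.snd := by
      funext g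
      change (inv _ ≫ q.fst.map g) ≫ ψ = inv _ ≫ (q.adjF.homEquiv _ _).symm ((g ≫ a) ≫ biprod.snd)
      rw [Category.assoc g a, q.adjF.homEquiv_naturality_left_symm, Category.assoc]
    exact e ▸ b3.comp b1
  obtain ⟨W, g, h, hW⟩ := distinguished_cocone_triangle ψ
  have hzW : IsZero (q.jpst.obj W) :=
    ((q.jpst.mapTriangle.obj _).isZero₃_iff_isIso₁ (q.jpst.map_distinguished _ hW)).2 hψ
  refine ((Triangle.mk ψ g h).isZero₃_iff_isIso₁ hW).1 ((IsZero.iff_id_eq_zero W).2 ?_)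
  have hh : h = 0 := by
    have hV : IsZero (q.jpst.obj (W⟦(-1 : ℤ)⟧)) :=
      (Functor.map_isZero (shiftFunctor R' (-1 : ℤ)) hzW).of_iso ((q.jpst.commShiftIso (-1 : ℤ)).app W)
    refine eq_zero_of_shift ψ h (comp_distTriang_mor_zero₃₁ _ hW) ?_
    intro t ht
    exact (hb hV).1 (ht.trans zero_comp.symm)
  obtain ⟨b, hb'⟩ := Triangle.coyoneda_exact₃ _ hW (𝟙 W) (by change 𝟙 W ≫ h = 0; rw [hh, comp_zero])
  obtain ⟨c, rfl⟩ := (hb hzW).2 b
  change 𝟙 W = (c ≫ ψ) ≫ g at hb'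
  rw [hb', Category.assoc]
  exact (congrArg (c ≫ ·) (comp_distTriang_mor_zero₁₂ _ hW)).trans comp_zero

end Groth.Agent.MVSqLib
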